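import Groth.Agent.Fga.JacFactor
import Groth.Agent.Sga1.SigmaFinite
import Groth.Agent.Pic13.H953.PicDisj
import Groth.Agent.Divis.EffCartier
import Groth.Agent.Picfga.IdealGlue

/-!
# Gluing effective Cartier divisors over a finite disjoint open cover (S15952, node DV4)
-/

set_option autoImplicit false

universe u

open CategoryTheory CategoryTheory.Limits AlgebraicGeometry TopologicalSpace Opposite
open Groth.Agent Groth.Agent.Grpsch.PicGrp Groth.Agent.Fga.JacFactor

namespace K434.GlueDiv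

/-- On an empty scheme every ideal sheaf is the unit ideal. -/
theorem eq_top_of_isEmpty {Z : Scheme.{u}} [IsEmpty Z] (I : Z.IdealSheafData) : I = ⊤ := by
  have h : IsEmpty I.subscheme := Function.isEmpty I.subschemeι
  have := Scheme.ker_eq_top_of_isEmpty I.subschemeι
  rwa [Scheme.IdealSheafData.ker_subschemeι] at this

theorem pull_dcl {Z Y : Scheme.{u}} (g : Z ⟶ Y) (D : Y.IdealSheafData) (hD : BlowUp.IsEffCartierIdeal D)
    (E : Z.IdealSheafData) (hE : BlowUp.IsEffCartierIdeal E) (h : D.comap g = E) :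
    pull g (dcl D hD) = dcl E hE := by
  subst h
  rw [dcl, dcl, pull_mk, mk_eq_iff]
  exact Dix.IdealModCartier.pullback_idealMod g hD hE

/-- A closed subscheme which is finite over `B` on each piece of a finite disjoint open cover is finite. -/
theorem isFinite_of_disjoint {X B : Scheme.{u}} (f : X ⟶ B) {ι : Type u} [Finite ι] (D : ι → Scheme.{u})
    (j : ∀ a, D a ⟶ X) [∀ a, IsOpenImmersion (j a)]
    (hdisj : ∀ a b, a ≠ b → Disjoint (Set.range (j a)) (Set.range (j b)))
    (hcov : ∀ x : X, ∃ a, x ∈ Set.range (j a)) (J : X.IdealSheafData)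
    (hfin : ∀ a, IsFinite ((J.comap (j a)).subschemeι ≫ j a ≫ f)) : IsFinite (J.subschemeι ≫ f) := by
  let k : ∀ a, (J.comap (j a)).subscheme ⟶ J.subscheme := fun a => (J.comapIso (j a)).hom ≫ pullback.snd (j a) J.subschemeι
  have hk : ∀ a, k a ≫ J.subschemeι = (J.comap (j a)).subschemeι ≫ j a := fun a => by
    simp only [k, Category.assoc]
    rw [← pullback.condition, Scheme.IdealSheafData.comapIso_hom_fst_assoc]
  have hko : ∀ a, IsOpenImmersion (k a) := fun a => inferInstance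
  have hrange : ∀ (a : ι) (z : J.subscheme), z ∈ Set.range (k a) → J.subschemeι z ∈ Set.range (j a) := by
    rintro a _ ⟨w, rfl⟩
    rw [← Scheme.Hom.comp_apply, hk, Scheme.Hom.comp_apply]
    exact ⟨_, rfl⟩
  have hcov' : ⨆ a, (k a).opensRange = ⊤ := by
    rw [eq_top_iff]
    intro z _
    obtain ⟨a, y, hy⟩ := hcov (J.subschemeι z)
    rw [Opens.mem_iSup]
    obtain ⟨w, -, hw⟩ := Scheme.Pullback.exists_preimage_pullback (f := j a) (g := J.subschemeι) y z hy
    refine ⟨a, (J.comapIso (j a)).inv w, ?_⟩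
    rw [← Scheme.Hom.comp_apply]
    simp only [k, Iso.inv_hom_id_assoc]
    exact hw
  have hdisj' : Pairwise (Function.onFun Disjoint fun a => (k a).opensRange) := by
    intro a b hab
    rw [Function.onFun, disjoint_iff, eq_bot_iff]
    rintro z ⟨hz1, hz2⟩
    exact (Set.disjoint_left.1 (hdisj a b hab) (hrange a z hz1) (hrange b z hz2)).elim
  obtain ⟨hc⟩ := nonempty_isColimit_cofanMk_of k hcov' hdisj'
  have hiso : IsIso (Sigma.desc k) :=
    (Cofan.nonempty_isColimit_iff_isIso_sigmaDesc (Cofan.mk J.subscheme k)).mp ⟨hc⟩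
  have h1 : Sigma.desc k ≫ J.subschemeι ≫ f = Sigma.desc fun a => (J.comap (j a)).subschemeι ≫ j a ≫ f := by
    refine Sigma.hom_ext _ _ fun a => ?_
    rw [Sigma.ι_desc, Sigma.ι_desc_assoc, ← Category.assoc, hk, Category.assoc]
  have h2 : IsFinite (Sigma.desc fun a => (J.comap (j a)).subschemeι ≫ j a ≫ f) :=
    Groth.Agent.Sga1.SigmaFinite.isFinite_sigmaDesc _
  have h3 : J.subschemeι ≫ f = inv (Sigma.desc k) ≫ Sigma.desc fun a => (J.comap (j a)).subschemeι ≫ j a ≫ f := by
    rw [← h1, IsIso.inv_hom_id_assoc]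
  rw [h3]
  infer_instance

/-- (DV4) -/
theorem exists_glue_divisor {X B : Scheme.{u}} (f : X ⟶ B) {ι : Type u} [Finite ι] (D : ι → Scheme.{u}) (j : ∀ a, D a ⟶ X)
    [∀ a, IsOpenImmersion (j a)] (hdisj : ∀ a b, a ≠ b → Disjoint (Set.range (j a)) (Set.range (j b)))
    (hcov : ∀ x : X, ∃ a, x ∈ Set.range (j a)) (I : ∀ a, (D a).IdealSheafData)
    (hI : ∀ a, BlowUp.IsEffCartierIdeal (I a)) (m : Pic X) (hm : ∀ a, dcl (I a) (hI a) = pull (j a) m)
    (hfin : ∀ a, IsFinite ((I a).subschemeι ≫ j a ≫ f)) :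
    ∃ (J : X.IdealSheafData) (hJ : BlowUp.IsEffCartierIdeal J), dcl J hJ = m ∧ (∀ a, J.comap (j a) = I a) ∧
      IsFinite (J.subschemeι ≫ f) := by
  obtain ⟨J, hJ, -⟩ := Picfga.IdealGlue.exists_unique_glue_family D j (fun x => by
    obtain ⟨a, y, hy⟩ := hcov x
    exact ⟨a, y, hy⟩) I (fun a b => by
    by_cases hab : a = b
    · subst hab
      rw [(cancel_mono (j a)).1 (pullback.condition (f := j a) (g := j a))]
    · have hE : IsEmpty ↥(pullback (j a) (j b)) := ⟨fun z => by
        refine Set.disjoint_left.1 (hdisj a b hab) ⟨pullback.fst (j a) (j b) z, rfl⟩ ⟨pullback.snd (j a) (j b) z, ?_⟩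
        rw [← Scheme.Hom.comp_apply, ← Scheme.Hom.comp_apply, pullback.condition]⟩
      rw [eq_top_of_isEmpty ((I a).comap _), eq_top_of_isEmpty ((I b).comap _)])
  have hJE : BlowUp.IsEffCartierIdeal J := Divis.EffCartier.isEff_of_forall_comap fun x => by
    obtain ⟨a, y, hy⟩ := hcov x
    refine ⟨D a, j a, inferInstance, ⟨y, hy⟩, ?_⟩
    rw [hJ a]
    exact hI a
  refine ⟨J, hJE, ?_, hJ, isFinite_of_disjoint f D j hdisj hcov J fun a => ?_⟩
  · refine Pic13.H953.PicDisj.eq_of_pull j hdisj hcov fun a => ?_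
    rw [← hm a]
    exact pull_dcl (j a) J hJE (I a) (hI a) (hJ a)
  · rw [hJ a]
    exact hfin a

end K434.GlueDiv
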