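import Mathlib.RingTheory.Flat.FaithfullyFlat.Basic
import Mathlib.RingTheory.TensorProduct.Maps
import Mathlib.RingTheory.TensorProduct.Finite
import Mathlib.Algebra.Algebra.Subalgebra.Lattice

/-!
# Additive cocycles on a faithfully flat extension are coboundaries (S17691, node TORS)

Exactness of the Amitsur complex `C → C ⊗ C → C ⊗ (C ⊗ C)` at the middle term.
-/

set_option autoImplicit false
universe u

open scoped TensorProduct

namespace K434.AmitsurAdd

variable (D C : Type u) [CommRing D] [CommRing C] [Algebra D C]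

/-- `g ↦ 1 ⊗ g - g ⊗ 1`. -/
noncomputable def d0 : C →ₗ[D] C ⊗[D] C :=
  (Algebra.TensorProduct.includeRight : C →ₐ[D] C ⊗[D] C).toLinearMap -
    (Algebra.TensorProduct.includeLeft : C →ₐ[D] C ⊗[D] C).toLinearMap

/-- `z ↦ z₂₃ - z₁₃ + z₁₂`. -/
noncomputable def d1 : C ⊗[D] C →ₗ[D] C ⊗[D] (C ⊗[D] C) :=
  (Algebra.TensorProduct.includeRight : C ⊗[D] C →ₐ[D] C ⊗[D] (C ⊗[D] C)).toLinearMap -
    (Algebra.TensorProduct.map (AlgHom.id D C) (Algebra.TensorProduct.includeRight : C →ₐ[D] C ⊗[D] C)).toLinearMap +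
    (Algebra.TensorProduct.map (AlgHom.id D C) (Algebra.TensorProduct.includeLeft : C →ₐ[D] C ⊗[D] C)).toLinearMap

theorem d0_apply (g : C) : d0 D C g = 1 ⊗ₜ g - g ⊗ₜ 1 := by
  simp [d0]

theorem d1_tmul (a b : C) : d1 D C (a ⊗ₜ b) = 1 ⊗ₜ (a ⊗ₜ b) - a ⊗ₜ (1 ⊗ₜ b) + a ⊗ₜ (b ⊗ₜ 1) := by
  simp [d1]

/-- the contraction `c ⊗ (a ⊗ y) ↦ (c a) ⊗ y` -/
noncomputable def con (Y : Type u) [AddCommGroup Y] [Module D Y] : C ⊗[D] (C ⊗[D] Y) →ₗ[D] C ⊗[D] Y :=
  (LinearMap.rTensor Y (LinearMap.mul' D C)).comp (TensorProduct.assoc D C C Y).symm.toLinearMap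

theorem con_tmul (Y : Type u) [AddCommGroup Y] [Module D Y] (c a : C) (y : Y) :
    con D C Y (c ⊗ₜ (a ⊗ₜ y)) = (c * a) ⊗ₜ y := by
  simp [con]

theorem homotopy (w : C ⊗[D] (C ⊗[D] C)) :
    LinearMap.lTensor C (d0 D C) (con D C C w) + con D C (C ⊗[D] C) (LinearMap.lTensor C (d1 D C) w) = w := by
  have h : (LinearMap.lTensor C (d0 D C)).comp (con D C C) +
      (con D C (C ⊗[D] C)).comp (LinearMap.lTensor C (d1 D C)) = LinearMap.id := by
    refine TensorProduct.ext' fun c y => ?_
    induction y with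
    | zero => simp
    | add y z hy hz =>
      simp only [TensorProduct.tmul_add, map_add]
      rw [hy, hz]
    | tmul a b =>
      simp only [LinearMap.add_apply, LinearMap.comp_apply, con_tmul, LinearMap.lTensor_tmul, d0_apply, d1_tmul,
        LinearMap.id_apply, TensorProduct.tmul_sub, TensorProduct.tmul_add, map_add, map_sub, mul_one]
      abel
  exact congrArg (fun l => l w) h

theorem exact_lTensor : Function.Exact (LinearMap.lTensor C (d0 D C)) (LinearMap.lTensor C (d1 D C)) := by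
  intro w
  constructor
  · intro hw
    have h := homotopy D C w
    rw [hw, map_zero, add_zero] at h
    exact ⟨_, h⟩
  · rintro ⟨v, rfl⟩
    rw [← LinearMap.comp_apply, ← LinearMap.lTensor_comp]
    have h : (d1 D C).comp (d0 D C) = 0 := by
      ext g
      simp only [LinearMap.comp_apply, d0_apply, map_sub, d1_tmul, LinearMap.zero_apply]
      abel
    rw [h, LinearMap.lTensor_zero, LinearMap.zero_apply]

theorem exact [Module.FaithfullyFlat D C] : Function.Exact (d0 D C) (d1 D C) :=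
  (Module.FaithfullyFlat.lTensor_exact_iff_exact D C (d0 D C) (d1 D C)).1 (exact_lTensor D C)

/-- (TORS) trivialisation of additive cocycles (exactness of the Amitsur complex). -/
theorem exists_triv (D C : Type u) [CommRing D] [CommRing C] [Algebra D C] [Module.FaithfullyFlat D C] {n : ℕ}
    (z : Fin n → C ⊗[D] C)
    (hz : ∀ l, Algebra.TensorProduct.map (AlgHom.id D C) (Algebra.TensorProduct.includeRight : C →ₐ[D] C ⊗[D] C) (z l) =
      Algebra.TensorProduct.map (AlgHom.id D C) (Algebra.TensorProduct.includeLeft : C →ₐ[D] C ⊗[D] C) (z l) +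
      (Algebra.TensorProduct.includeRight : C ⊗[D] C →ₐ[D] C ⊗[D] (C ⊗[D] C)) (z l))
    (hgen : Algebra.adjoin C (Set.range z) = ⊤) :
    ∃ g : Fin n → C, (∀ l, z l = 1 ⊗ₜ g l - g l ⊗ₜ 1) ∧ Algebra.adjoin D (Set.range g) = ⊤ := by
  have h1 : ∀ l, ∃ g : C, d0 D C g = z l := fun l => (exact D C (z l)).1 (by
    have h := hz l
    simp only [d1, LinearMap.add_apply, LinearMap.sub_apply, AlgHom.toLinearMap_apply]
    rw [h]
    abel)
  choose g hg using h1
  have hg' : ∀ l, z l = 1 ⊗ₜ g l - g l ⊗ₜ 1 := fun l => by rw [← hg l, d0_apply]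
  refine ⟨g, hg', ?_⟩
  let A : Subalgebra D C := Algebra.adjoin D (Set.range g)
  let φ : C ⊗[D] A →ₐ[C] C ⊗[D] C := Algebra.TensorProduct.map (AlgHom.id C C) A.val
  have hφ : φ.range = ⊤ := by
    rw [eq_top_iff, ← hgen, Algebra.adjoin_le_iff]
    rintro _ ⟨l, rfl⟩
    rw [hg' l]
    refine sub_mem ⟨1 ⊗ₜ ⟨g l, Algebra.subset_adjoin ⟨l, rfl⟩⟩, ?_⟩ ⟨g l ⊗ₜ 1, ?_⟩
    · change φ _ = _
      simp [φ]
    · change φ _ = _
      simp [φ]
  have hs : Function.Surjective (LinearMap.lTensor C A.val.toLinearMap) := by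
    intro w
    obtain ⟨v, hv⟩ : w ∈ φ.range := by rw [hφ]; trivial
    refine ⟨v, ?_⟩
    rw [← hv]
    rfl
  have hs' := (Module.FaithfullyFlat.lTensor_surjective_iff_surjective D C A.val.toLinearMap).1 hs
  rw [eq_top_iff]
  intro c _
  obtain ⟨a, ha⟩ := hs' c
  rw [← ha]
  exact a.2

/-- (DESC) elements with equal images in `C ⊗ C` come from `D`. -/
theorem exists_of_eq (D C : Type u) [CommRing D] [CommRing C] [Algebra D C] [Module.FaithfullyFlat D C] (c : C)
    (hc : (1 : C) ⊗ₜ[D] c = c ⊗ₜ[D] (1 : C)) : ∃ d : D, algebraMap D C d = c := by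
  have h : Function.Exact (Algebra.linearMap D C) (d0 D C) := by
    refine (Module.FaithfullyFlat.lTensor_exact_iff_exact D C _ _).1 fun w => ⟨fun hw => ?_, ?_⟩
    · have h : (LinearMap.lTensor C (Algebra.linearMap D C)).comp
          ((TensorProduct.rid D C).symm.toLinearMap.comp (LinearMap.mul' D C)) +
          (con D C C).comp (LinearMap.lTensor C (d0 D C)) = LinearMap.id := by
        refine TensorProduct.ext' fun a b => ?_
        simp only [LinearMap.add_apply, LinearMap.comp_apply, LinearEquiv.coe_coe, LinearMap.mul'_apply,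
          TensorProduct.rid_symm_apply, LinearMap.lTensor_tmul, Algebra.linearMap_apply, map_one, d0_apply,
          TensorProduct.tmul_sub, map_sub, con_tmul, mul_one, LinearMap.id_apply]
        abel
      have h' := congrArg (fun l => l w) h
      simp only [LinearMap.add_apply, LinearMap.comp_apply, hw, map_zero, add_zero, LinearMap.id_apply] at h'
      exact ⟨_, h'⟩
    · rintro ⟨v, rfl⟩
      rw [← LinearMap.comp_apply, ← LinearMap.lTensor_comp]
      have h : (d0 D C).comp (Algebra.linearMap D C) = 0 := by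
        ext
        simp [d0_apply]
      rw [h, LinearMap.lTensor_zero, LinearMap.zero_apply]
  obtain ⟨d, hd⟩ := (h c).1 (by rw [d0_apply, hc, sub_self])
  exact ⟨d, hd⟩

end K434.AmitsurAdd
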